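import Cfsg.Agent.H209.PiSpor.Row
import Cfsg.Agent.H823.SK.HS
import Cfsg.Agent.H921.SporCo
import Cfsg.Agent.H13.M22.Stab
import Cfsg.Agent.SporadicA.MathieuRecog

/-!
# S4324: the group `HS` and the prime 5 (helper294)

Every involution of `Aut(HS)` (four classes, permutations of the 100 points of the Higman-Sims graph) has four conjugates
generating a group with an element of order 5. Elements of order 3, 7, 11 lie in `M22` of index 100.
-/

set_option autoImplicit false
set_option linter.unusedSectionVars false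
set_option maxRecDepth 100000

universe u

open Subgroup Cfsg Cfsg.Agent.H216.Pi Cfsg.Agent.H209.PiSpor
open Cfsg.Agent.HN.Pres Cfsg.Agent.HN.HS100 Cfsg.Agent.HN.P1408 Cfsg.Agent.HN.AutHS
open Cfsg.Agent.HN.Syl Cfsg.Agent.HN.Classes Cfsg.Agent.HN.AutBound Cfsg.Agent.HN.SrgHS
open Cfsg.Agent.SporadicA.PermTab Cfsg.Agent.H823.SK.HS
open Equiv

namespace Cfsg.Agent.H294.PiSpor.HS

/-! ### `FC` fails by explicit products of conjugates -/

/-- `x` acts as the conjugation by the permutation `p` -/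
def Acts (x : MulAut Q) (p : Perm (Fin 100)) : Prop := ∀ q : Q, ((x q : Q) : Perm (Fin 100)) = p * q * p⁻¹

theorem Acts.one : Acts 1 1 := fun q => by simp

theorem Acts.mul {x y : MulAut Q} {p r : Perm (Fin 100)} (hx : Acts x p) (hy : Acts y r) : Acts (x * y) (p * r) := by
  intro q
  rw [MulAut.mul_apply, hx, hy, mul_inv_rev]
  group

theorem Acts.inv {x : MulAut Q} {p : Perm (Fin 100)} (hx : Acts x p) : Acts x⁻¹ p⁻¹ := by
  intro q
  have h1 := hx (x⁻¹ q)
  rw [MulAut.apply_inv_self] at h1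
  rw [h1]
  group

theorem Acts.pow {x : MulAut Q} {p : Perm (Fin 100)} (hx : Acts x p) (n : ℕ) : Acts (x ^ n) (p ^ n) := by
  induction n with
  | zero => rw [pow_zero, pow_zero]; exact Acts.one
  | succ n ih => rw [pow_succ, pow_succ]; exact ih.mul hx

theorem acts_conj (k : Q) : Acts (MulAut.conj k) k := fun q => by
  rw [MulAut.conj_apply]; rfl

theorem Acts.cj {x : MulAut Q} {p : Perm (Fin 100)} (hx : Acts x p) (k : Q) : Acts (cj x k) (k * p * (k : Perm (Fin 100))⁻¹) :=
  ((acts_conj k).mul hx).mul (acts_conj k).inv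

theorem Acts.eq_one {x : MulAut Q} (hx : Acts x 1) : x = 1 := by
  ext q
  rw [hx]
  simp

theorem Acts.perm_eq_one {p : Perm (Fin 100)} (hx : Acts 1 p) : p = 1 := by
  refine eq_one_of_comm fun q hq => ?_
  have h1 := hx ⟨q, hq⟩
  rw [MulAut.one_apply, eq_mul_inv_iff_mul_eq] at h1
  exact h1.symm

theorem Acts.orderOf_five {x : MulAut Q} {p : Perm (Fin 100)} (hx : Acts x p) (h5 : p ^ 5 = 1) (h1 : p ≠ 1) :
    orderOf x = 5 := by
  have : Fact (Nat.Prime 5) := ⟨by norm_num⟩
  refine orderOf_eq_prime ?_ ?_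
  · apply Acts.eq_one
    rw [← h5]
    exact hx.pow 5
  · rintro rfl
    exact h1 hx.perm_eq_one

theorem exists_inC {x : MulAut Q} {p : Perm (Fin 100)} (hx : Acts x p) (ks : List Q) :
    ∃ y, H216.Pi.InC ks.length x y ∧ Acts y ((ks.map Q.subtype).map fun k => k * p * k⁻¹).prod := by
  induction ks with
  | nil => exact ⟨1, ⟨Fin.elim0, one_mem _⟩, Acts.one⟩
  | cons k ks ih =>
    obtain ⟨y, hy, ha⟩ := ih
    refine ⟨H216.Pi.cj x k * y, ?_, ?_⟩
    · rw [List.length_cons, add_comm]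
      exact (H216.Pi.InC.cj_self x k).mul hy
    · rw [List.map_cons, List.map_cons, List.prod_cons]
      exact (hx.cj k).mul ha

/-- conjugating the words -/
theorem prod_conj (c z : Perm (Fin 100)) (ws : List (Perm (Fin 100))) :
    (ws.map fun w => c * w * c⁻¹ * (c * z * c⁻¹) * (c * w * c⁻¹)⁻¹).prod = c * (ws.map fun w => w * z * w⁻¹).prod * c⁻¹ := by
  induction ws with
  | nil => simp
  | cons w ws ih =>
    rw [List.map_cons, List.map_cons, List.prod_cons, List.prod_cons, ih]
    group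

/-- the word of the product of conjugates -/
def pw (s : List ℕ) (ws : List (List ℕ)) : List ℕ := (ws.map fun w => w ++ s ++ iw w).flatten

theorem hw_pw (s : List ℕ) (ws : List (List ℕ)) :
    φ (hw (pw s ws)) = ((ws.map fun w => φ (hw w)).map fun w => w * φ (hw s) * w⁻¹).prod := by
  induction ws with
  | nil => exact map_one φ
  | cons w ws ih =>
    have h1 : pw s (w :: ws) = (w ++ s ++ iw w) ++ pw s ws := rfl
    rw [h1, hw_append, map_mul, ih, List.map_cons, List.map_cons, List.prod_cons, hw_append, hw_append, hw_iw, map_mul,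
      map_mul, map_inv]

/-- the check for one class -/
theorem fc_false {x : MulAut Q} {c : Perm (Fin 100)} (hc : c ∈ autG 100 adjA) {s : List ℕ} (hx : Acts x (c * φ (hw s) * c⁻¹))
    (ws : List (List ℕ)) (hlen : ws.length ≤ 11) (hQ : ∀ w ∈ ws, φ (hw w) ∈ Q)
    (h5 : allB (fun i => Nat.beq (t1 (pw s ws ++ pw s ws ++ pw s ws ++ pw s ws ++ pw s ws) i) (t1 [] i)) 100 = true)
    (h0 : Nat.beq (t1 (pw s ws) 0) 0 = false) (hFC : FC 5 (mm 5) x) : False := by
  have hn : ∀ w : Perm (Fin 100), w ∈ Q → c * w * c⁻¹ ∈ Q := by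
    intro w hw
    rw [mem_Q_iff] at hw ⊢
    refine ⟨(autG 100 adjA).mul_mem ((autG 100 adjA).mul_mem hc hw.1) ((autG 100 adjA).inv_mem hc), ?_⟩
    rw [map_mul, map_mul, hw.2, mul_one, ← map_mul, mul_inv_cancel, map_one]
  -- the list of conjugating elements
  obtain ⟨ks, hks⟩ : ∃ ks : List Q, ks.map Q.subtype = (ws.map fun w => φ (hw w)).map fun w => c * w * c⁻¹ := by
    clear h5 h0 hlen
    induction ws with
    | nil => exact ⟨[], rfl⟩
    | cons w ws ih =>
      obtain ⟨ks, hks⟩ := ih fun w hw => hQ w (List.mem_cons_of_mem _ hw)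
      refine ⟨⟨_, hn _ (hQ w List.mem_cons_self)⟩ :: ks, ?_⟩
      rw [List.map_cons, List.map_cons, List.map_cons, hks]
      rfl
  obtain ⟨y, hy, ha⟩ := exists_inC hx ks
  have hlen2 : ks.length ≤ 11 := by
    have h1 := congrArg List.length hks
    rw [List.length_map, List.length_map, List.length_map] at h1
    omega
  have he : ((ks.map Q.subtype).map fun k => k * (c * φ (hw s) * c⁻¹) * k⁻¹).prod =
      c * φ (hw (pw s ws)) * c⁻¹ := by
    rw [hks, List.map_map, hw_pw, ← prod_conj c (φ (hw s)) (ws.map fun w => φ (hw w))]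
    rfl
  rw [he] at ha
  have e5 : φ (hw (pw s ws)) ^ 5 = 1 := by
    have h1 : φ (hw (pw s ws)) ^ 5 = φ (hw (pw s ws ++ pw s ws ++ pw s ws ++ pw s ws ++ pw s ws)) := by
      simp only [hw_append, map_mul, pow_succ, pow_zero, one_mul]
    rw [h1, eq_of_t1 h5]
    exact map_one φ
  have e0 : φ (hw (pw s ws)) ≠ 1 := by
    intro h
    have h1 := φ_hw_apply (pw s ws) 0
    rw [h] at h1
    have h2 : t1 (pw s ws) 0 = 0 := h1.symm
    rw [h2] at h0
    exact absurd h0 (by decide)
  have h1 := ha.orderOf_five (by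
    rw [conj_pow, e5, mul_one, mul_inv_cancel]) (by
    intro h
    apply e0
    rwa [mul_inv_eq_one, mul_eq_left] at h)
  exact hFC y (hy.mono (hlen2.trans (mm_ge 5))) (by rw [h1])

theorem mem_Q_word {w : List ℕ} (h : (w.all fun l => Nat.ble l 3) = true) : φ (hw w) ∈ Q := by
  have hX : X ∈ Q := mem_Q_iff.2 ⟨range_le ⟨gx, φ_gx⟩, sign_X⟩
  have hY : Y ∈ Q := mem_Q_iff.2 ⟨range_le ⟨gy, φ_gy⟩, sign_Y⟩
  rw [map_hw, φ_gx, φ_gy, φ_gz]
  induction w with
  | nil => exact Q.one_mem
  | cons l w ih =>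
    rw [List.all_cons, Bool.and_eq_true] at h
    rw [HN.P1408.ev_cons]
    refine Q.mul_mem ?_ (ih h.2)
    match l, h.1 with
    | 0, _ => exact hX
    | 1, _ => exact Q.inv_mem hX
    | 2, _ => exact hY
    | 3, _ => exact Q.inv_mem hY

/-- every involution of `Aut(HS)` -/
theorem false_of_two {x : MulAut Q} (hx2 : orderOf x = 2) (hFC : FC 5 (mm 5) x) : False := by
  obtain ⟨p, hp, hxp⟩ := exists_perm x
  have hx : Acts x p := hxp
  have h2 : p * p = 1 := by
    have h1 : x ^ 2 = 1 := by rw [← hx2, pow_orderOf_eq_one]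
    have h3 := hx.pow 2
    rw [h1] at h3
    rw [← pow_two]
    exact h3.perm_eq_one
  have h1 : p ≠ 1 := by
    rintro rfl
    rw [hx.eq_one, orderOf_one] at hx2
    omega
  rcases cl_of hp h2 h1 with ⟨c, hc, rfl⟩ | ⟨c, hc, rfl⟩ | ⟨c, hc, rfl⟩ | ⟨c, hc, rfl⟩
  · rw [← hw_a] at hx
    exact fc_false hc hx [[], [0, 2, 0]] (by decide) (by
      intro w hw
      exact mem_Q_word (by revert w; decide)) (by decide +kernel) (by decide +kernel) hFC
  · rw [← hw_x] at hx
    exact fc_false hc hx [[], [2, 0, 2, 0, 2]] (by decide) (by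
      intro w hw
      exact mem_Q_word (by revert w; decide)) (by decide +kernel) (by decide +kernel) hFC
  · rw [← hw_z] at hx
    exact fc_false hc hx [[], [2], [3], [0, 2, 2, 2]] (by decide) (by
      intro w hw
      exact mem_Q_word (by revert w; decide)) (by decide +kernel) (by decide +kernel) hFC
  · exact fc_false hc (s := [1, 3, 1, 2, 1, 4, 3, 4, 2, 4]) hx [[], [2, 2]] (by decide) (by
      intro w hw
      exact mem_Q_word (by revert w; decide)) (by decide +kernel) (by decide +kernel) hFC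

/-- the automorphisms of odd prime order are inner -/
theorem order_two_of_outer {x : MulAut Q} (hp : (orderOf x).Prime) (hx : x ∉ (MulAut.conj : Q →* MulAut Q).range) :
    orderOf x = 2 := by
  obtain ⟨p, hpA, hxp⟩ := exists_perm x
  have ha : Acts x p := hxp
  by_contra h2
  apply hx
  have h1 : p ^ orderOf x = 1 := by
    have h3 := ha.pow (orderOf x)
    rw [pow_orderOf_eq_one] at h3
    exact h3.perm_eq_one
  obtain ⟨n, hn⟩ := hp.odd_of_ne_two h2
  rw [hn] at h1
  have hQ : p ∈ Q := mem_Q_iff.2 ⟨hpA, sign_of_odd h1⟩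
  refine ⟨⟨p, hQ⟩, ?_⟩
  ext q
  rw [hxp, MulAut.conj_apply]
  rfl

theorem center_Q : center Q = ⊥ := by
  rw [eq_bot_iff]
  intro z hz
  rw [mem_bot]
  apply Subtype.ext
  refine eq_one_of_comm fun q hq => ?_
  exact (congrArg Subtype.val (mem_center_iff.1 hz ⟨q, hq⟩)).symm

/-- elements of order 3, 7, 11 -/
theorem ni_odd {p : ℕ} (hp : p.Prime) (hp5 : p ≠ 5) (hp2 : p ≠ 2) : NI 5 p Q := by
  obtain ⟨⟨e⟩, hsim⟩ := nonempty_Q
  obtain ⟨f, hf⟩ := H921.Spor.Co.exists_HS
  have hM : IsSimpleGroup Spor.M22 := SporadicA.MathieuRecog.simple_M22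
  let g : Spor.M22 →* Q := e.symm.toMonoidHom.comp f
  have hg : Function.Injective g := e.symm.injective.comp hf
  have hr : IsSimpleGroup g.range :=
    (MulEquiv.isSimpleGroup_congr (MonoidHom.ofInjective hg)).1 hM
  have hc : Nat.card g.range = 443520 := by
    rw [← H13.M22.card_M22]
    exact (Nat.card_congr (MonoidHom.ofInjective hg).toEquiv).symm
  have hi : g.range.index = 100 := by
    have h1 := g.range.card_mul_index
    rw [hc, card_Q] at h1
    omega
  refine NI.of_index_simple (by norm_num) hp hp5 (M := g.range) ?_ ?_ hr ?_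
  · intro h
    rw [h, index_top] at hi
    omega
  · rw [hi]
    intro h
    have h1 : p ∣ 2 ^ 2 * 5 ^ 2 := h
    rcases hp.dvd_mul.1 h1 with h2 | h2
    · exact hp2 ((Nat.prime_dvd_prime_iff_eq hp Nat.prime_two).1 (hp.dvd_of_dvd_pow h2))
    · exact hp5 ((Nat.prime_dvd_prime_iff_eq hp (by norm_num)).1 (hp.dvd_of_dvd_pow h2))
  · rw [hc]; norm_num

/-- **`HS`, `s = 5`** -/
theorem ncs_HS_5 {K : Type u} [Group K] [Finite K] (h : Spor.IsoHS K) : NCs 5 K := by
  obtain ⟨⟨e⟩, hsim⟩ := nonempty_Q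
  obtain ⟨i⟩ := h
  refine ncs_congr (e.trans i.symm) (ncs_of center_Q ?_ ?_ ?_)
  · intro p hp hp5
    by_cases hp2 : p = 2
    · subst hp2
      intro g hg _ hFC
      refine false_of_two ?_ hFC
      rw [← hg]
      exact orderOf_injective MulAut.conj (conj_inj center_Q) g
    · exact ni_odd hp hp5 hp2
  · exact fun x hx hxo => order_two_of_outer hx hxo
  · intro x hx2 _ _ hFC
    exact false_of_two hx2 hFC

end Cfsg.Agent.H294.PiSpor.HS
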